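import Cfsg.Agent.H408.EP.KForm

/-!
# Quadratic spaces with a self-adjoint extension field in characteristic two (helper408, S3499 Om-C3)
-/

set_option autoImplicit false
set_option linter.unusedSectionVars false

namespace Cfsg.Agent.H408.EP

open QuadraticMap Module
open Cfsg.Agent.LieClassical.OrthCore Cfsg.Agent.LieClassical.OrthTrans Cfsg.Agent.LieClassical.OrthFinite

section ext

variable {F E V : Type*} [Field F] [Finite F] [Field E] [Finite E] [Algebra F E] [AddCommGroup V] [Module F V]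
  [Module E V] [IsScalarTower F E V] [FiniteDimensional F V] {Q : QuadraticForm F V}

/-- **The form over the extension field, characteristic two.** -/
theorem exists_kform2 (h2 : (2 : F) = 0) (hQ : Nondeg Q) (hself : ∀ (k : E) (u v : V), polar Q (k • u) v = polar Q u (k • v)) :
    ∃ QE : QuadraticForm E V, Nondeg QE ∧ (∀ v, Q v = Algebra.trace F E (QE v)) ∧
      ∀ u v, polar Q u v = Algebra.trace F E (polar QE u v) := by
  have hfinE : FiniteDimensional F E := inferInstance
  have hnd := traceForm_nondegenerate F E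
  have h2E : (2 : E) = 0 := by
    have h3 : algebraMap F E 2 = 2 := map_ofNat _ _
    rw [← h3, h2, map_zero]
  have : CharP E 2 := CharTwo.of_one_ne_zero_of_two_eq_zero one_ne_zero h2E
  have inj : ∀ c d : E, (∀ x, Algebra.trace F E (c * x) = Algebra.trace F E (d * x)) → c = d := by
    intro c d h
    rw [← sub_eq_zero]
    apply hnd.1
    intro x
    rw [Algebra.traceForm_apply, sub_mul, map_sub, h, sub_self]
  have hsq : ∀ x : E, ∃ s : E, s ^ 2 = x := by
    intro x
    obtain ⟨s, hs⟩ := (Finite.injective_iff_surjective.1 (frobenius_inj E 2)) x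
    exact ⟨s, by rw [← hs, frobenius_def]⟩
  choose sq hsqx using hsq
  have sqinj : ∀ a b : E, a ^ 2 = b ^ 2 → a = b := by
    intro a b h
    exact frobenius_inj E 2 (by rw [frobenius_def, frobenius_def, h])
  have hex : ∀ u v : V, ∃ c : E, ∀ x : E, Algebra.trace F E (c * x) = polar Q (x • u) v := by
    intro u v
    let φ : Module.Dual F E :=
      { toFun := fun x => polar Q (x • u) v
        map_add' := fun x y => by rw [add_smul, polar_add_left]
        map_smul' := fun a x => by rw [smul_assoc, polar_smul_left, RingHom.id_apply] }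
    refine ⟨(LinearMap.BilinForm.toDual _ hnd).symm φ, fun x => ?_⟩
    have h1 := LinearMap.BilinForm.apply_toDual_symm_apply (B := Algebra.traceForm F E) (hB := hnd) φ x
    rwa [Algebra.traceForm_apply] at h1
  choose b hb using hex
  have badd : ∀ u u' v, b (u + u') v = b u v + b u' v := by
    intro u u' v
    apply inj
    intro x
    rw [hb, add_mul, map_add, hb, hb, smul_add, polar_add_left]
  have bsmul : ∀ (k : E) u v, b (k • u) v = k * b u v := by
    intro k u v
    apply inj
    intro x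
    rw [hb, smul_smul, ← hb, mul_comm k, mul_assoc, mul_comm x k]
  have bsymm : ∀ u v, b u v = b v u := by
    intro u v
    apply inj
    intro x
    rw [hb, hb, hself, polar_comm]
  let B : LinearMap.BilinForm E V :=
    LinearMap.mk₂ E b badd (fun k u v => by rw [bsmul, smul_eq_mul])
      (fun u v v' => by rw [bsymm, badd, bsymm v, bsymm v']) (fun k u v => by rw [bsymm, bsmul, bsymm v, smul_eq_mul])
  have htb : ∀ (k k' : E) u v, polar Q (k • u) (k' • v) = Algebra.trace F E (k * k' * b u v) := by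
    intro k k' u v
    rw [polar_comm, hself, polar_comm, smul_smul, ← hb, mul_comm (b u v), mul_comm k' k]
  -- the diagonal
  have hzero : ∀ (k k' : E) (v : V), polar Q (k • v) (k' • v) = 0 := by
    intro k k' v
    have h1 : polar Q (k • v) (k' • v) = polar Q ((sq (k * k')) • v) ((sq (k * k')) • v) := by
      rw [htb, htb, ← pow_two (sq (k * k')), hsqx]
    rw [h1, polar_self', h2, zero_mul]
  have hexq : ∀ v : V, ∃ c : E, ∀ k : E, Algebra.trace F E (c * k ^ 2) = Q (k • v) := by
    intro v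
    let φ : Module.Dual F E :=
      { toFun := fun x => Q (sq x • v)
        map_add' := fun x y => by
          have h1 : sq (x + y) = sq x + sq y := sqinj _ _ (by
            rw [CharTwo.add_sq, hsqx, hsqx, hsqx])
          rw [h1, add_smul, Q_add, hzero, add_zero]
        map_smul' := fun a x => by
          rw [RingHom.id_apply]
          obtain ⟨c, hc⟩ : ∃ c : F, c ^ 2 = a := by
            have : CharP F 2 := CharTwo.of_one_ne_zero_of_two_eq_zero one_ne_zero h2
            obtain ⟨s, hs⟩ := (Finite.injective_iff_surjective.1 (frobenius_inj F 2)) a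
            exact ⟨s, by rw [← hs, frobenius_def]⟩
          have h1 : sq (a • x) = c • sq x := sqinj _ _ (by
            rw [hsqx, smul_pow, hsqx, hc])
          rw [h1, smul_assoc, QuadraticMap.map_smul, smul_eq_mul, smul_eq_mul, ← pow_two, hc] }
    refine ⟨(LinearMap.BilinForm.toDual _ hnd).symm φ, fun k => ?_⟩
    have h1 := LinearMap.BilinForm.apply_toDual_symm_apply (B := Algebra.traceForm F E) (hB := hnd) φ (k ^ 2)
    rw [Algebra.traceForm_apply] at h1
    rw [h1]
    show Q (sq (k ^ 2) • v) = _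
    rw [sqinj _ _ (hsqx (k ^ 2))]
  choose q hq using hexq
  have inj2 : ∀ c d : E, (∀ x, Algebra.trace F E (c * x ^ 2) = Algebra.trace F E (d * x ^ 2)) → c = d := by
    intro c d h
    apply inj
    intro x
    rw [← hsqx x]
    exact h _
  have qadd : ∀ u v, q (u + v) = q u + q v + b u v := by
    intro u v
    apply inj2
    intro x
    rw [hq, smul_add, Q_add, add_mul, add_mul, map_add, map_add, hq, hq, htb, ← pow_two, mul_comm (b u v)]
  have qsmul : ∀ (k : E) v, q (k • v) = k * k * q v := by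
    intro k v
    apply inj2
    intro x
    rw [hq, smul_smul, ← hq]
    congr 1
    ring
  let QE : QuadraticForm E V :=
    { toFun := q
      toFun_smul := fun k v => by rw [qsmul, smul_eq_mul]
      exists_companion' := ⟨B, fun u v => qadd u v⟩ }
  have hpE : ∀ u v, polar QE u v = b u v := by
    intro u v
    show q (u + v) - q u - q v = b u v
    rw [qadd]
    ring
  have htr : ∀ u v, polar Q u v = Algebra.trace F E (polar QE u v) := by
    intro u v
    rw [hpE]
    have h1 := hb u v 1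
    rw [mul_one, one_smul] at h1
    exact h1.symm
  refine ⟨QE, ?_, ?_, htr⟩
  · intro x hx
    apply hQ
    intro y
    rw [htr, hx, map_zero]
  · intro v
    have h1 := hq v 1
    rw [one_pow, mul_one, one_smul] at h1
    exact h1.symm

/-- two functionals -/
theorem exists_both {W : Type*} [AddCommGroup W] [Module F W] (f g : W →ₗ[F] F) (hf : f ≠ 0) (hg : g ≠ 0) :
    ∃ c, f c ≠ 0 ∧ g c ≠ 0 := by
  obtain ⟨a, ha⟩ : ∃ a, f a ≠ 0 := by
    by_contra hcon
    push Not at hcon
    exact hf (LinearMap.ext hcon)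
  obtain ⟨b, hb⟩ : ∃ b, g b ≠ 0 := by
    by_contra hcon
    push Not at hcon
    exact hg (LinearMap.ext hcon)
  by_cases h1 : g a = 0
  · by_cases h3 : f b = 0
    · exact ⟨a + b, by rw [map_add, h3, add_zero]; exact ha, by rw [map_add, h1, zero_add]; exact hb⟩
    · exact ⟨b, h3, hb⟩
  · exact ⟨a, ha, h1⟩

/-- an isometry moving `w` to an orthogonal vector `y` of the same value, characteristic two -/
theorem exists_move {QE : QuadraticForm E V} (h2 : (2 : E) = 0) (h3 : ∃ s : E, s ≠ 0 ∧ s ≠ 1)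
    {u u' : V} (hyp : Hyp QE u u') {w₁ w₂ : E} (hw₂ : w₂ ≠ 0) {y y' : V} (huy : polar QE u y = 0)
    (hu'y : polar QE u' y = 0) (huy' : polar QE u y' = 0) (hu'y' : polar QE u' y' = 0)
    (hyy' : polar QE y y' ≠ 0) (hval : QE y = w₁ * w₂) : ∃ T ∈ O QE, T (w₁ • u + w₂ • u') = y := by
  have hchar : ∀ x : E, -x = x := by
    intro x
    rw [neg_eq_iff_add_eq_zero, ← two_mul, h2, zero_mul]
  have hQw : ∀ s t : E, QE (s • u + t • u') = s * t := by
    intro s t
    rw [Q_add, QuadraticMap.map_smul, QuadraticMap.map_smul, hyp.left, hyp.right, polar_smul_left, polar_smul_right, hyp.pair]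
    simp
  have hpw : ∀ s t s' t' : E, polar QE (s • u + t • u') (s' • u + t' • u') = s * t' + t * s' := by
    intro s t s' t'
    rw [polar_add_left, polar_add_right, polar_add_right, polar_smul_left, polar_smul_left, polar_smul_left, polar_smul_left,
      polar_smul_right, polar_smul_right, polar_smul_right, polar_smul_right, hyp.pair, hyp.pair', hyp.polar_left,
      hyp.polar_right]
    simp
  set w := w₁ • u + w₂ • u' with hw
  -- the vector `p`
  obtain ⟨s, t, hst, hne⟩ : ∃ s t : E, s * t = w₁ * w₂ + QE y' ∧ w₁ * t + w₂ * s ≠ 0 := by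
    by_cases h0 : w₁ * w₂ + QE y' = 0
    · exact ⟨1, 0, by rw [h0, mul_zero], by rw [mul_zero, zero_add, mul_one]; exact hw₂⟩
    · set γ := w₁ * w₂ + QE y' with hγ
      by_cases h1 : w₁ * γ + w₂ = 0
      · obtain ⟨s, hs0, hs1⟩ := h3
        refine ⟨s, γ / s, by field_simp, ?_⟩
        intro hcon
        have h4 : w₁ * γ = w₂ := by
          have h5 := eq_neg_of_add_eq_zero_left h1
          rwa [hchar] at h5
        have h5 : w₂ * (1 + s) ^ 2 = 0 := by
          have h6 : w₁ * (γ / s) + w₂ * s = (w₁ * γ + w₂ * s ^ 2) / s := by field_simp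
          rw [h6, h4, div_eq_zero_iff] at hcon
          have h7 := hcon.resolve_right hs0
          calc w₂ * (1 + s) ^ 2 = (w₂ + w₂ * s ^ 2) + 2 * (w₂ * s) := by ring
            _ = 0 := by rw [h7, h2]; ring
        have h6 := (mul_eq_zero.1 h5).resolve_left hw₂
        have h7 : 1 + s = 0 := by
          exact pow_eq_zero_iff (two_ne_zero) |>.1 h6
        apply hs1
        have h8 := eq_neg_of_add_eq_zero_left h7
        rw [hchar] at h8
        exact h8.symm
      · exact ⟨1, γ, by rw [one_mul], by rw [mul_one]; exact h1⟩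
  set z := (s • u + t • u') + y' with hz
  have hpy' : polar QE (s • u + t • u') y' = 0 := by
    rw [polar_add_left, polar_smul_left, polar_smul_left, huy', hu'y']
    simp
  have hQz : QE z = w₁ * w₂ := by
    rw [hz, Q_add, hQw, hst, hpy', add_zero, add_assoc, ← two_mul, h2, zero_mul, add_zero]
  have hwz : polar QE w z ≠ 0 := by
    rw [hz, polar_add_right, hw, hpw, polar_add_left, polar_smul_left, polar_smul_left, huy', hu'y']
    simpa using hne
  have hzy : polar QE z y ≠ 0 := by
    rw [hz, polar_add_left, polar_add_left, polar_smul_left, polar_smul_left, huy, hu'y, polar_comm]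
    simpa using hyy'
  have hQw' : QE w = w₁ * w₂ := hQw _ _
  have hsub : ∀ a b : V, QE a = QE b → QE (a - b) = polar QE a b := by
    intro a b hab
    rw [sub_eq_add_neg, Q_add, QuadraticMap.map_neg, polar_neg_right, hab, ← two_mul, h2, zero_mul, zero_add, hchar]
  have h4 : QE (w - z) ≠ 0 := by rw [hsub _ _ (by rw [hQw', hQz])]; exact hwz
  have h5 : QE (z - y) ≠ 0 := by rw [hsub _ _ (by rw [hQz, hval])]; exact hzy
  refine ⟨refl QE (z - y) h5 * refl QE (w - z) h4, mul_mem (refl_mem_O h5) (refl_mem_O h4), ?_⟩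
  show refl QE (z - y) h5 (refl QE (w - z) h4 w) = y
  rw [refl_sub_apply (by rw [hQw', hQz]) h4, refl_sub_apply (by rw [hQz, hval]) h5]

/-- **The data, characteristic two.** -/
theorem exists_data2 (h2 : (2 : F) = 0) (hQ : Nondeg Q)
    (hself : ∀ (k : E) (u v : V), polar Q (k • u) v = polar Q u (k • v)) (h3 : 3 ≤ finrank F E)
    (hd : 3 * finrank F E ≤ finrank F V) :
    ∃ e₁ e₂ : V, Q e₁ ≠ 0 ∧ Q e₁ = Q e₂ ∧ polar Q e₁ e₂ ≠ 0 ∧
      ∃ T₁ T₂ : V ≃ₗ[F] V, T₁ ∈ O Q ∧ T₂ ∈ O Q ∧ (∀ (k : E) y, T₁ (k • y) = k • T₁ y) ∧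
        (∀ (k : E) y, T₂ (k • y) = k • T₂ y) ∧ T₁ e₁ = e₂ ∧ (T₁ * T₂ * T₁⁻¹ * T₂⁻¹) e₁ = e₂ ∧
          (T₁ * T₂ * T₁⁻¹ * T₂⁻¹) e₂ = e₁ := by
  obtain ⟨QE, hQE, hval, hpol⟩ := exists_kform2 h2 hQ hself
  have hfinE : FiniteDimensional F E := inferInstance
  have hfinV : FiniteDimensional E V := FiniteDimensional.right F E V
  have hmul : finrank F E * finrank E V = finrank F V := Module.finrank_mul_finrank F E V
  have hdE : 3 ≤ finrank E V := by
    by_contra hcon
    have h4 : finrank E V ≤ 2 := by omega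
    have h5 := Nat.mul_le_mul_left (finrank F E) h4
    rw [hmul] at h5
    omega
  have h2E : (2 : E) = 0 := by
    have h3 : algebraMap F E 2 = 2 := map_ofNat _ _
    rw [← h3, h2, map_zero]
  have : CharP E 2 := CharTwo.of_one_ne_zero_of_two_eq_zero one_ne_zero h2E
  have hchar : ∀ x : E, -x = x := by
    intro x
    rw [neg_eq_iff_add_eq_zero, ← two_mul, h2E, zero_mul]
  -- an element of `E` different from `0`, `1`
  obtain ⟨a, ha0, ha1⟩ : ∃ a : E, a ≠ 0 ∧ a ≠ 1 := by
    by_contra hcon
    push Not at hcon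
    have hle : Nat.card E ≤ 2 := by
      classical
      have := Fintype.ofFinite E
      rw [Nat.card_eq_fintype_card]
      have : (Finset.univ : Finset E) ⊆ {0, 1} := by
        intro x _
        rw [Finset.mem_insert, Finset.mem_singleton]
        by_cases hx : x = 0
        · exact Or.inl hx
        · exact Or.inr (hcon x hx)
      exact le_trans (Finset.card_le_card this) Finset.card_le_two
    have h4 : Nat.card E = Nat.card F ^ finrank F E := Module.natCard_eq_pow_finrank
    have h5 : 2 ≤ Nat.card F := Finite.one_lt_card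
    have h6 : 2 ^ 3 ≤ Nat.card F ^ finrank F E :=
      le_trans (Nat.pow_le_pow_left h5 3) (Nat.pow_le_pow_right (by omega) h3)
    omega
  -- hyperbolic pair
  obtain ⟨u, hu0, hu, -⟩ := exists_sing_perp (Q := QE) (n := 0) Fin.elim0 (by omega)
  obtain ⟨u', hyp⟩ := exists_hyp hQE hu hu0
  have hQw : ∀ s t : E, QE (s • u + t • u') = s * t := by
    intro s t
    rw [Q_add, QuadraticMap.map_smul, QuadraticMap.map_smul, hyp.left, hyp.right, polar_smul_left, polar_smul_right, hyp.pair]
    simp
  have hpw : ∀ s t s' t' : E, polar QE (s • u + t • u') (s' • u + t' • u') = s * t' + t * s' := by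
    intro s t s' t'
    rw [polar_add_left, polar_add_right, polar_add_right, polar_smul_left, polar_smul_left, polar_smul_left, polar_smul_left,
      polar_smul_right, polar_smul_right, polar_smul_right, polar_smul_right, hyp.pair, hyp.pair', hyp.polar_left,
      hyp.polar_right]
    simp
  have ht : a⁻¹ + a ≠ 0 := by
    intro h
    apply ha1
    have h4 : a⁻¹ = a := by
      have h5 := eq_neg_of_add_eq_zero_left h
      rwa [hchar] at h5
    have h5 : a ^ 2 = 1 ^ 2 := by
      rw [pow_two, one_pow]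
      nth_rewrite 1 [← h4]
      exact inv_mul_cancel₀ ha0
    exact frobenius_inj E 2 (by rw [frobenius_def, frobenius_def, h5])
  have htrne : Algebra.trace F E ≠ 0 := Algebra.trace_ne_zero F E
  obtain ⟨c, hc1, hc2⟩ := exists_both (Algebra.trace F E) ((Algebra.trace F E) ∘ₗ (LinearMap.mulRight F (a⁻¹ + a))) htrne (by
    intro h
    apply htrne
    ext x
    have h4 := LinearMap.congr_fun h (x * (a⁻¹ + a)⁻¹)
    rw [LinearMap.comp_apply, LinearMap.mulRight_apply, mul_assoc, inv_mul_cancel₀ ht, mul_one] at h4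
    exact h4)
  rw [LinearMap.comp_apply, LinearMap.mulRight_apply] at hc2
  have hc0 : c ≠ 0 := by
    rintro rfl
    exact hc1 (map_zero _)
  set e₁ := (1 : E) • u + c • u' with he₁
  set e₂ := a • u + (c * a⁻¹) • u' with he₂
  have hQ1 : QE e₁ = c := by rw [he₁, hQw, one_mul]
  have hQ2 : QE e₂ = c := by rw [he₂, hQw]; field_simp
  have hp12 : polar QE e₁ e₂ = c * (a⁻¹ + a) := by rw [he₁, he₂, hpw]; ring
  have hβ : c * (a⁻¹ + a) ≠ 0 := mul_ne_zero hc0 ht
  have hsub : QE (e₁ - e₂) = c * (a⁻¹ + a) := by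
    rw [sub_eq_add_neg, Q_add, QuadraticMap.map_neg, polar_neg_right, hQ1, hQ2, hp12, ← two_mul, h2E, zero_mul, zero_add, hchar]
  have hsub0 : QE (e₁ - e₂) ≠ 0 := by rw [hsub]; exact hβ
  -- the vector `y`
  obtain ⟨y, y', huy, hu'y, huy', hu'y', hyy', hQy⟩ : ∃ y y' : V, polar QE u y = 0 ∧ polar QE u' y = 0 ∧ polar QE u y' = 0 ∧
      polar QE u' y' = 0 ∧ polar QE y y' ≠ 0 ∧ QE y = c * (a⁻¹ + a) := by
    obtain ⟨v, v', h1, h3, h4, h5, h6⟩ := exists_perp2 hQE hdE hyp
    have h6' : polar QE v' v = 1 := by rw [polar_comm]; exact h6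
    have hscale : ∀ y₀ y' : V, polar QE u y₀ = 0 → polar QE u' y₀ = 0 → polar QE u y' = 0 → polar QE u' y' = 0 →
        polar QE y₀ y' = 1 → QE y₀ ≠ 0 → ∃ y y' : V, polar QE u y = 0 ∧ polar QE u' y = 0 ∧ polar QE u y' = 0 ∧
          polar QE u' y' = 0 ∧ polar QE y y' ≠ 0 ∧ QE y = c * (a⁻¹ + a) := by
      intro y₀ y' g1 g2 g3 g4 g5 g6
      obtain ⟨l, hl⟩ := (Finite.injective_iff_surjective.1 (frobenius_inj E 2)) (c * (a⁻¹ + a) * (QE y₀)⁻¹)
      rw [frobenius_def] at hl
      have hl0 : l ≠ 0 := by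
        rintro rfl
        rw [zero_pow two_ne_zero] at hl
        exact mul_ne_zero hβ (inv_ne_zero g6) hl.symm
      refine ⟨l • y₀, y', by rw [polar_smul_right, g1, smul_zero], by rw [polar_smul_right, g2, smul_zero], g3, g4, ?_, ?_⟩
      · rw [polar_smul_left, g5, smul_eq_mul, mul_one]; exact hl0
      · rw [QuadraticMap.map_smul, smul_eq_mul, ← pow_two, hl, mul_assoc, inv_mul_cancel₀ g6, mul_one]
    rcases exists_nonsing h6 with h | h | h
    · exact hscale v v' h1 h3 h4 h5 h6 h
    · exact hscale v' v h4 h5 h1 h3 h6' h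
    · refine hscale (v + v') v (by rw [polar_add_right, h1, h4, add_zero]) (by rw [polar_add_right, h3, h5, add_zero]) h1 h3 ?_ h
      rw [polar_add_left, polar_self', h2E, zero_mul, zero_add, h6']
  -- the isometries
  have hwform : e₁ - e₂ = (1 - a) • u + (c - c * a⁻¹) • u' := by
    rw [he₁, he₂]
    module
  have hca : c - c * a⁻¹ ≠ 0 := by
    intro h
    have h4 : c * a⁻¹ = c * 1 := by rw [mul_one]; exact (sub_eq_zero.1 h).symm
    have h5 := mul_left_cancel₀ hc0 h4
    exact ha1 (inv_eq_one.1 h5)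
  obtain ⟨T₂, hT₂, hT₂w⟩ := exists_move (QE := QE) h2E ⟨a, ha0, ha1⟩ hyp hca huy hu'y huy' hu'y' hyy' (by
    rw [hQy, ← hsub, hwform, hQw])
  rw [← hwform] at hT₂w
  set T₁ := refl QE (e₁ - e₂) hsub0 with hT₁
  have hT₁e : T₁ e₁ = e₂ := refl_sub_apply (by rw [hQ1, hQ2]) hsub0
  have hT₁e' : T₁ e₂ = e₁ := by
    have h4 : (T₁ * T₁) e₁ = e₁ := by rw [hT₁, refl_mul_self hsub0]; rfl
    rw [← hT₁e]
    exact h4
  have hy0 : QE y ≠ 0 := by rw [hQy]; exact hβ
  have hconj : T₁ * T₂ * T₁⁻¹ * T₂⁻¹ = T₁ * refl QE y hy0 := by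
    have h4 : T₂ * T₁ * T₂⁻¹ = refl QE y hy0 := by
      have hq : QE (T₂ (e₁ - e₂)) ≠ 0 := by rw [hT₂w]; exact hy0
      rw [hT₁, refl_conj hT₂ hsub0 hq]
      congr 1
    have h5 : T₁⁻¹ = T₁ := refl_inv hsub0
    rw [h5, ← h4]
    group
  have hres : ∀ T : V ≃ₗ[E] V, T ∈ O QE → T.restrictScalars F ∈ O Q := by
    intro T hT y
    show Q (T y) = Q y
    rw [hval, hval, hT y]
  have hpy : ∀ s t : E, polar QE y (s • u + t • u') = 0 := by
    intro s t
    rw [polar_add_right, polar_smul_right, polar_smul_right, polar_comm QE y u, polar_comm QE y u', huy, hu'y]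
    simp
  have hfix : ∀ s t : E, refl QE y hy0 (s • u + t • u') = s • u + t • u' := by
    intro s t
    rw [refl_apply hy0, hpy, mul_zero, zero_smul, sub_zero]
  refine ⟨e₁, e₂, ?_, ?_, ?_, T₁.restrictScalars F, T₂.restrictScalars F, hres _ (refl_mem_O hsub0), hres _ hT₂,
    fun k y => map_smul T₁ k y, fun k y => map_smul T₂ k y, hT₁e, ?_, ?_⟩
  · rw [hval, hQ1]; exact hc1
  · rw [hval, hval, hQ1, hQ2]
  · rw [hpol, hp12]; exact hc2
  · show (T₁ * T₂ * T₁⁻¹ * T₂⁻¹) e₁ = e₂
    rw [hconj]
    show T₁ (refl QE y hy0 e₁) = e₂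
    rw [he₁, hfix, ← he₁]
    exact hT₁e
  · show (T₁ * T₂ * T₁⁻¹ * T₂⁻¹) e₂ = e₁
    rw [hconj]
    show T₁ (refl QE y hy0 e₂) = e₁
    rw [he₂, hfix, ← he₂]
    exact hT₁e'

end ext

end Cfsg.Agent.H408.EP
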